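import Cfsg.Agent.H812.D4.Vg

/-!
# Groups of type `G₂` and `³D₄`, any characteristic: counting points (helper812)
-/

set_option autoImplicit false

namespace Cfsg.Agent.H812.D4

open Cfsg.Agent.SplitTwo Cfsg.Agent.TitsThree.RankTwoZ Cfsg.Agent.Lib.SL2Mat Cfsg.Agent.Cit.HexBase
  Cfsg.Agent.Cit.HexBase.HexGrp Cfsg.Agent.H812.D4.Pts

universe u

variable {E : Type*} [Field E] {σ : E ≃+* E} {L : Type u} [Group L] (c : HexGrp σ L)

/-- the root of the coordinate `i` -/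
def rt (i : Fin 6) : ZMod (2 * 6) := (i.val : ZMod (2 * 6)) + 1

/-- the admissible coordinates -/
def BB (σ : E ≃+* E) (A : AddSubgroup E) (s : Finset (ZMod (2 * 6))) (i : Fin 6) : Set E :=
  if rt i ∈ s then (if i.val % 2 = 1 then {a | σ a = a} else (A : Set E)) else {0}

/-- `x1 a₀ ⋯ x6 a₅` -/
def prd (a : Fin 6 → E) : L := c.x1 (a 0) * c.x2 (a 1) * c.x3 (a 2) * c.x4 (a 3) * c.x5 (a 4) * c.x6 (a 5)

def MM (σ : E ≃+* E) (A : AddSubgroup E) (s : Finset (ZMod (2 * 6))) : Set (Fin 6 → E) := Set.pi Set.univ (BB σ A s)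

theorem mem_MM {A : AddSubgroup E} {s : Finset (ZMod (2 * 6))} {a : Fin 6 → E} :
    a ∈ MM σ A s ↔ ∀ i, a i ∈ BB σ A s i := by
  unfold MM
  rw [Set.mem_univ_pi]

theorem ncard_MM [Finite E] (A : AddSubgroup E) (s : Finset (ZMod (2 * 6))) :
    (MM σ A s).ncard = ∏ i, (BB σ A s i).ncard := by
  have h := Nat.card_congr (Equiv.Set.univPi (BB σ A s))
  rw [Nat.card_pi] at h
  exact h

theorem BB_fix {A : AddSubgroup E} {s : Finset (ZMod (2 * 6))} {i : Fin 6} (hi : i.val % 2 = 1) {a : E}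
    (h : a ∈ BB σ A s i) : σ a = a := by
  unfold BB at h
  split_ifs at h
  · exact h
  · rw [Set.mem_singleton_iff] at h
    rw [h, map_zero]

theorem BB_mem {A : AddSubgroup E} {s : Finset (ZMod (2 * 6))} {i : Fin 6} (hi : i.val % 2 = 0) {a : E}
    (h : a ∈ BB σ A s i) : a ∈ A := by
  unfold BB at h
  split_ifs at h with h1 h2
  · omega
  · exact h
  · rw [Set.mem_singleton_iff] at h
    rw [h]
    exact zero_mem _

theorem BB_zero {A : AddSubgroup E} {s : Finset (ZMod (2 * 6))} {i : Fin 6} (hi : rt i ∉ s) {a : E}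
    (h : a ∈ BB σ A s i) : a = 0 := by
  unfold BB at h
  rw [if_neg hi] at h
  exact h

theorem mem_BB_even {A : AddSubgroup E} {s : Finset (ZMod (2 * 6))} {i : Fin 6} (hi : i.val % 2 = 1) {a : E}
    (h : σ a = a) (h0 : rt i ∉ s → a = 0) : a ∈ BB σ A s i := by
  unfold BB
  split_ifs with h1
  · exact h
  · exact h0 h1

theorem mem_BB_odd {A : AddSubgroup E} {s : Finset (ZMod (2 * 6))} {i : Fin 6} (hi : i.val % 2 = 0) {a : E}
    (h : a ∈ A) (h0 : rt i ∉ s → a = 0) : a ∈ BB σ A s i := by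
  unfold BB
  split_ifs with h1 h2
  · omega
  · exact h
  · exact h0 h1

variable {c}

theorem prd_inj {A : AddSubgroup E} {s : Finset (ZMod (2 * 6))} {A' : AddSubgroup E} {s' : Finset (ZMod (2 * 6))}
    {a b : Fin 6 → E} (ha : a ∈ MM σ A s) (hb : b ∈ MM σ A' s') (h : prd c a = prd c b) : a = b := by
  rw [mem_MM] at ha hb
  have f1 := BB_fix (i := 1) rfl (ha 1)
  have f3 := BB_fix (i := 3) rfl (ha 3)
  have f5 := BB_fix (i := 5) rfl (ha 5)
  have g1 := BB_fix (i := 1) rfl (hb 1)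
  have g3 := BB_fix (i := 3) rfl (hb 3)
  have g5 := BB_fix (i := 5) rfl (hb 5)
  obtain ⟨k1, k2, k3, k4, k5, k6⟩ := c.uniq16 (c.mem1 (a 0)) (c.mem2 f1) (c.mem3 (a 2)) (c.mem4 f3) (c.mem5 (a 4))
    (c.mem6 f5) (c.mem1 (b 0)) (c.mem2 g1) (c.mem3 (b 2)) (c.mem4 g3) (c.mem5 (b 4)) (c.mem6 g5) h
  funext i
  fin_cases i
  · exact c.x1_inj k1
  · exact c.x2_inj f1 g1 k2
  · exact c.x3_inj k3
  · exact c.x4_inj f3 g3 k4
  · exact c.x5_inj k5
  · exact c.x6_inj f5 g5 k6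

variable (c)

theorem step {t : Finset (ZMod (2 * 6))} {j : ZMod (2 * 6)}
    (h : j ∈ t → ∀ i ∈ t.erase j, i = j ∨ (j ≠ i + 6 ∧ bt j i ⊆ t.erase j)) {g : L} (hg : g ∈ Sg c.X t) :
    ∃ x ∈ c.X j, (j ∉ t → x = 1) ∧ ∃ v ∈ Sg c.X (t.erase j), g = x * v := by
  by_cases hj : j ∈ t
  · rw [← Finset.insert_erase hj] at hg
    obtain ⟨x, hx, v, hv, e⟩ := c.exists_mul (h hj) hg
    exact ⟨x, hx, fun h => absurd hj h, v, hv, e⟩
  · refine ⟨1, one_mem _, fun _ => rfl, g, ?_, by rw [one_mul]⟩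
    rwa [Finset.erase_eq_of_notMem hj]

/-- one step of the decomposition is possible -/
def Stp (j : ZMod (2 * 6)) (t : Finset (ZMod (2 * 6))) : Prop :=
  j ∈ t → ∀ i ∈ t.erase j, i = j ∨ (j ≠ i + 6 ∧ bt j i ⊆ t.erase j)

instance instDecStp (j : ZMod (2 * 6)) (t : Finset (ZMod (2 * 6))) : Decidable (Stp j t) := by
  unfold Stp; infer_instance

theorem stp_idx : ∀ k ∈ Ev, Stp 1 (Cs k) ∧ Stp 2 ((Cs k).erase 1) ∧ Stp 3 (((Cs k).erase 1).erase 2) ∧
    Stp 4 ((((Cs k).erase 1).erase 2).erase 3) ∧ Stp 5 (((((Cs k).erase 1).erase 2).erase 3).erase 4) ∧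
    Stp 6 ((((((Cs k).erase 1).erase 2).erase 3).erase 4).erase 5) ∧
    ((((((Cs k).erase 1).erase 2).erase 3).erase 4).erase 5).erase 6 = ∅ := by decide +kernel

theorem exists_prd {k : ZMod (2 * 6)} (hk : k ∈ Ev) {g : L} (hg : g ∈ Sg c.X (Cs k)) :
    ∃ a ∈ MM σ ⊤ (Cs k), g = prd c a := by
  obtain ⟨s1, s2, s3, s4, s5, s6, s7⟩ := stp_idx k hk
  obtain ⟨y1, m1, z1, v1, hv1, e1⟩ := step c s1 hg
  obtain ⟨y2, m2, z2, v2, hv2, e2⟩ := step c s2 hv1
  obtain ⟨y3, m3, z3, v3, hv3, e3⟩ := step c s3 hv2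
  obtain ⟨y4, m4, z4, v4, hv4, e4⟩ := step c s4 hv3
  obtain ⟨y5, m5, z5, v5, hv5, e5⟩ := step c s5 hv4
  obtain ⟨y6, m6, z6, v6, hv6, e6⟩ := step c s6 hv5
  have hv : v6 = 1 := by
    rw [s7] at hv6
    have : Sg c.X ∅ = ⊥ := by unfold Sg; simp
    rw [this] at hv6
    exact Subgroup.mem_bot.1 hv6
  obtain ⟨a1, rfl⟩ := (c.par.mem1 _).1 m1
  obtain ⟨a2, f2, rfl⟩ := (c.par.mem2 _).1 m2
  obtain ⟨a3, rfl⟩ := (c.par.mem3 _).1 m3
  obtain ⟨a4, f4, rfl⟩ := (c.par.mem4 _).1 m4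
  obtain ⟨a5, rfl⟩ := (c.par.mem5 _).1 m5
  obtain ⟨a6, f6, rfl⟩ := (c.par.mem6 _).1 m6
  refine ⟨![a1, a2, a3, a4, a5, a6], ?_, ?_⟩
  · rw [mem_MM]
    intro i
    fin_cases i
    · refine mem_BB_odd rfl trivial fun h => c.x1_inj ?_
      rw [c.x1_zero]
      exact z1 h
    · refine mem_BB_even rfl f2 fun h => c.x2_inj f2 (map_zero σ) ?_
      rw [c.x2_zero]
      exact z2 fun h' => h (Finset.mem_of_mem_erase h')
    · refine mem_BB_odd rfl trivial fun h => c.x3_inj ?_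
      rw [c.x3_zero]
      exact z3 fun h' => h (Finset.mem_of_mem_erase (Finset.mem_of_mem_erase h'))
    · refine mem_BB_even rfl f4 fun h => c.x4_inj f4 (map_zero σ) ?_
      rw [c.x4_zero]
      exact z4 fun h' => h (Finset.mem_of_mem_erase (Finset.mem_of_mem_erase (Finset.mem_of_mem_erase h')))
    · refine mem_BB_odd rfl trivial fun h => c.x5_inj ?_
      rw [c.x5_zero]
      exact z5 fun h' => h (Finset.mem_of_mem_erase (Finset.mem_of_mem_erase (Finset.mem_of_mem_erase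
        (Finset.mem_of_mem_erase h'))))
    · refine mem_BB_even rfl f6 fun h => c.x6_inj f6 (map_zero σ) ?_
      rw [c.x6_zero]
      exact z6 fun h' => h (Finset.mem_of_mem_erase (Finset.mem_of_mem_erase (Finset.mem_of_mem_erase
        (Finset.mem_of_mem_erase (Finset.mem_of_mem_erase h')))))
  · change g = c.x1 a1 * c.x2 a2 * c.x3 a3 * c.x4 a4 * c.x5 a5 * c.x6 a6
    rw [e1, e2, e3, e4, e5, e6, hv]
    group

theorem rt_mem : ∀ i : Fin 6, rt i ∈ Pos := by decide +kernel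

theorem Cs4 : Cs 4 = Pos := by decide +kernel

section

variable {c} {A : AddSubgroup E} {hA : GoodA σ A}

theorem coe_inf {k : ZMod (2 * 6)} (hk : k ∈ Ev) :
    ((VA c hA ⊓ Sg c.X (Cs k) : Subgroup L) : Set L) = prd c '' MM σ A (Cs k) := by
  ext g
  rw [SetLike.mem_coe, Subgroup.mem_inf, Set.mem_image]
  constructor
  · rintro ⟨h1, h2⟩
    obtain ⟨a1, k1, a2, k2, a3, k3, a4, k4, a5, k5, a6, k6, rfl⟩ := exists_six h1
    obtain ⟨b, hb, e⟩ := exists_prd c hk h2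
    have ha : ![a1, a2, a3, a4, a5, a6] ∈ MM σ A Pos := by
      rw [mem_MM]
      intro i
      fin_cases i
      · exact mem_BB_odd rfl k1 fun h => absurd (rt_mem _) h
      · exact mem_BB_even rfl k2 fun h => absurd (rt_mem _) h
      · exact mem_BB_odd rfl k3 fun h => absurd (rt_mem _) h
      · exact mem_BB_even rfl k4 fun h => absurd (rt_mem _) h
      · exact mem_BB_odd rfl k5 fun h => absurd (rt_mem _) h
      · exact mem_BB_even rfl k6 fun h => absurd (rt_mem _) h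
    have e' : prd c ![a1, a2, a3, a4, a5, a6] = prd c b := e
    have hab := prd_inj ha hb e'
    refine ⟨b, ?_, e.symm⟩
    rw [mem_MM] at ha hb ⊢
    intro i
    rw [hab] at ha
    rcases Nat.mod_two_eq_zero_or_one i.val with h | h
    · exact mem_BB_odd h (BB_mem h (ha i)) fun h' => BB_zero h' (hb i)
    · exact mem_BB_even h (BB_fix h (ha i)) fun h' => BB_zero h' (hb i)
  · rintro ⟨a, ha, rfl⟩
    rw [mem_MM] at ha
    refine ⟨six_VA (BB_mem rfl (ha 0)) (BB_fix rfl (ha 1)) (BB_mem rfl (ha 2)) (BB_fix rfl (ha 3))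
      (BB_mem rfl (ha 4)) (BB_fix rfl (ha 5)), ?_⟩
    have key : ∀ (i : Fin 6) (x : E → L), x 0 = 1 → (x (a i) ∈ c.X (rt i)) → x (a i) ∈ Sg c.X (Cs k) := by
      intro i x h0 hx
      by_cases h : rt i ∈ Cs k
      · exact c.sg h hx
      · rw [BB_zero h (ha i), h0]
        exact one_mem _
    unfold prd
    refine mul_mem (mul_mem (mul_mem (mul_mem (mul_mem (key 0 _ c.x1_zero (c.mem1 _)) (key 1 _ c.x2_zero ?_))
      (key 2 _ c.x3_zero (c.mem3 _))) (key 3 _ c.x4_zero ?_)) (key 4 _ c.x5_zero (c.mem5 _))) (key 5 _ c.x6_zero ?_)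
    · exact c.mem2 (BB_fix rfl (ha 1))
    · exact c.mem4 (BB_fix rfl (ha 3))
    · exact c.mem6 (BB_fix rfl (ha 5))

/-- **the order of `VA ∩ N(X k)`** -/
theorem card_VA_inf [Finite E] {k : ZMod (2 * 6)} (hk : k ∈ Ev) :
    Nat.card ↥(VA c hA ⊓ nz (c.X k)) = ∏ i, (BB σ A (Cs k) i).ncard := by
  rw [nz_inf c hk VA_le, ← ncard_MM]
  have h1 : Nat.card ↥(VA c hA ⊓ Sg c.X (Cs k)) = ((VA c hA ⊓ Sg c.X (Cs k) : Subgroup L) : Set L).ncard := rfl
  rw [h1, coe_inf hk]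
  exact Set.InjOn.ncard_image fun a ha b hb e => prd_inj ha hb e

end

end Cfsg.Agent.H812.D4
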