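import Mathlib

/-!
# Conjugates of a subgroup (helper812)
-/

set_option autoImplicit false

namespace Cfsg.Agent.H812.D4.Pts

variable {G : Type*} [Group G]

/-- the conjugate `g B g⁻¹` -/
def cj (g : G) (B : Subgroup G) : Subgroup G := B.map (MulAut.conj g).toMonoidHom

theorem mem_cj {g : G} {B : Subgroup G} {x : G} : x ∈ cj g B ↔ g⁻¹ * x * g ∈ B := by
  unfold cj
  rw [Subgroup.mem_map]
  constructor
  · rintro ⟨y, hy, rfl⟩
    have h1 : g⁻¹ * ((MulAut.conj g).toMonoidHom y) * g = y := by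
      show g⁻¹ * (g * y * g⁻¹) * g = y
      group
    rw [h1]
    exact hy
  · intro h
    refine ⟨g⁻¹ * x * g, h, ?_⟩
    show g * (g⁻¹ * x * g) * g⁻¹ = x
    group

theorem conj_mem_cj {g : G} {B : Subgroup G} {x : G} (hx : x ∈ B) : g * x * g⁻¹ ∈ cj g B := by
  rw [mem_cj]
  have : g⁻¹ * (g * x * g⁻¹) * g = x := by group
  rwa [this]

theorem cj_mul (g h : G) (B : Subgroup G) : cj (g * h) B = cj g (cj h B) := by
  ext x
  rw [mem_cj, mem_cj, mem_cj]
  have : (g * h)⁻¹ * x * (g * h) = h⁻¹ * (g⁻¹ * x * g) * h := by group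
  rw [this]

theorem cj_one (B : Subgroup G) : cj 1 B = B := by
  ext x
  rw [mem_cj]
  simp

theorem cj_inv_cj (g : G) (B : Subgroup G) : cj g⁻¹ (cj g B) = B := by
  rw [← cj_mul, inv_mul_cancel, cj_one]

theorem cj_cj_inv (g : G) (B : Subgroup G) : cj g (cj g⁻¹ B) = B := by
  rw [← cj_mul, mul_inv_cancel, cj_one]

theorem cj_eq_iff {g : G} {B C : Subgroup G} : cj g B = C ↔ B = cj g⁻¹ C := by
  constructor
  · rintro rfl
    rw [cj_inv_cj]
  · rintro rfl
    rw [cj_cj_inv]

theorem cj_inj {g : G} {B C : Subgroup G} (h : cj g B = cj g C) : B = C := by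
  rw [cj_eq_iff, cj_inv_cj] at h
  exact h

theorem cj_le_iff {g : G} {B C : Subgroup G} : cj g B ≤ C ↔ ∀ x ∈ B, g * x * g⁻¹ ∈ C := by
  constructor
  · intro h x hx
    exact h (conj_mem_cj hx)
  · intro h x hx
    rw [mem_cj] at hx
    have := h _ hx
    have e : g * (g⁻¹ * x * g) * g⁻¹ = x := by group
    rwa [e] at this

theorem cj_mono {g : G} {B C : Subgroup G} (h : B ≤ C) : cj g B ≤ cj g C := by
  intro x hx
  rw [mem_cj] at hx ⊢
  exact h hx

theorem cj_le {g : G} {B K : Subgroup G} (hg : g ∈ K) (hB : B ≤ K) : cj g B ≤ K :=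
  cj_le_iff.2 fun x hx => mul_mem (mul_mem hg (hB hx)) (inv_mem hg)

/-- the normaliser -/
def nz (B : Subgroup G) : Subgroup G where
  carrier := {g | cj g B = B}
  mul_mem' := by
    intro a b ha hb
    change cj (a * b) B = B
    rw [cj_mul, show cj b B = B from hb, show cj a B = B from ha]
  one_mem' := cj_one B
  inv_mem' := by
    intro a ha
    change cj a⁻¹ B = B
    rw [cj_eq_iff, inv_inv]
    exact (show cj a B = B from ha).symm

theorem mem_nz {B : Subgroup G} {g : G} : g ∈ nz B ↔ cj g B = B := Iff.rfl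

theorem mem_nz_of_comm {B : Subgroup G} {g : G} (h : ∀ x ∈ B, g * x = x * g) : g ∈ nz B := by
  rw [mem_nz]
  ext x
  rw [mem_cj]
  constructor
  · intro hx
    have h1 := h _ hx
    have h2 : x = g⁻¹ * x * g := by
      have : g * (g⁻¹ * x * g) = x * g := by group
      rw [this] at h1
      exact mul_right_cancel h1
    rw [h2]
    exact hx
  · intro hx
    have h1 := h _ hx
    have h2 : g⁻¹ * x * g = x := by rw [mul_assoc, ← h1]; group
    rwa [h2]

theorem le_nz_of {B V : Subgroup G} (h : ∀ g ∈ V, ∀ x ∈ B, g * x * g⁻¹ ∈ B) : V ≤ nz B := by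
  intro g hg
  rw [mem_nz]
  apply le_antisymm
  · exact cj_le_iff.2 (h g hg)
  · intro x hx
    rw [mem_cj]
    have := h g⁻¹ (inv_mem hg) x hx
    rwa [inv_inv] at this

/-- the conjugates of `X` under `V` -/
def pts (V X : Subgroup G) : Set (Subgroup G) := {B | ∃ v ∈ V, B = cj v X}

theorem mem_pts {V X B : Subgroup G} : B ∈ pts V X ↔ ∃ v ∈ V, B = cj v X := Iff.rfl

/-- orbits and stabilisers -/
theorem card_pts (V X : Subgroup G) : (pts V X).ncard * Nat.card ↥(V ⊓ nz X) = Nat.card V := by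
  let act : MulAction V (Subgroup G) :=
    { smul := fun v B => cj (v : G) B
      one_smul := fun B => cj_one B
      mul_smul := fun v w B => cj_mul (v : G) (w : G) B }
  have h1 : MulAction.orbit V X = pts V X := by
    ext B
    rw [MulAction.mem_orbit_iff, mem_pts]
    constructor
    · rintro ⟨v, hv⟩
      exact ⟨v, v.2, hv.symm⟩
    · rintro ⟨v, hv, e⟩
      exact ⟨⟨v, hv⟩, e.symm⟩
  have h2 : Nat.card (MulAction.stabilizer V X) = Nat.card ↥(V ⊓ nz X) := by
    refine Nat.card_congr ⟨fun v => ⟨v.1, v.1.2, v.2⟩, fun v => ⟨⟨v.1, v.2.1⟩, v.2.2⟩, fun v => rfl, fun v => rfl⟩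
  have h3 := Nat.card_congr (MulAction.orbitProdStabilizerEquivGroup V X)
  rw [Nat.card_prod, h2, h1] at h3
  exact h3

end Cfsg.Agent.H812.D4.Pts
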