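import Cfsg.Agent.Cit.HexForm
import Cfsg.Agent.Cit.HexCent2
import Cfsg.Agent.H148.Coord
import Cfsg.Agent.H812.D4.Pts

/-!
# Groups of type `G₂` and `³D₄`, any characteristic: the long root subgroups (helper812)
-/

set_option autoImplicit false

namespace Cfsg.Agent.H812.D4

open Cfsg.Agent.SplitTwo Cfsg.Agent.TitsThree.RankTwoZ Cfsg.Agent.Lib.SL2Mat Cfsg.Agent.Cit.HexBase
  Cfsg.Agent.Cit.HexBase.HexGrp Cfsg.Agent.H812.D4.Pts

universe u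

variable {E : Type*} [Field E] {σ : E ≃+* E} {L : Type u} [Group L] (c : HexGrp σ L)

/-- indices of the long roots -/
abbrev Ev : Finset (ZMod (2 * 6)) := {0, 2, 4, 6, 8, 10}

theorem cj_of_maps {n : L} {f : ZMod (2 * 6) → ZMod (2 * 6)} (hn : Maps c.X n f) (k : ZMod (2 * 6)) :
    cj n (c.X k) = c.X (f k) := by
  ext x
  rw [mem_cj, ← hn k]
  have : n * (n⁻¹ * x * n) * n⁻¹ = x := by group
  rw [this]

theorem cj_act {g : L} {c1 c6 : E} (h : c.Act g c1 c6) (k : ZMod (2 * 6)) : cj g (c.X k) = c.X k :=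
  cj_of_maps c h.maps k

theorem rot4 : ∀ k ∈ Ev, ∃ r : Fin 6, (4 : ZMod (2 * 6)) + 2 * (r.val : ZMod (2 * 6)) = k := by decide +kernel

/-- all long root groups are conjugate under `⟨n1, n6⟩` -/
theorem exists_rot {k : ZMod (2 * 6)} (hk : k ∈ Ev) : ∃ r : ℕ, cj ((c.n1 * c.n6) ^ r) (c.X 4) = c.X k := by
  obtain ⟨r, hr⟩ := rot4 k hk
  exact ⟨r.val, by rw [cj_of_maps c (c.maps_rot r.val), hr]⟩

/-! ### Commutation -/

theorem idx17 : ∀ j ∈ ({1, 2, 3, 4, 5, 6, 7} : Finset (ZMod (2 * 6))), j ∈ Pos ∨ j = 7 := by decide +kernel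

theorem comm4_all : ∀ j : ZMod (2 * 6), j ∈ ({1, 2, 3, 4, 5, 6, 7} : Finset (ZMod (2 * 6))) →
    ∀ x ∈ c.X 4, ∀ g ∈ c.X j, x * g = g * x := by
  intro j hj x hx g hg
  rcases idx17 j hj with h | rfl
  · exact (c.comm4 (c.sg h hg) hx).symm
  · exact (c.comm47 hg hx).symm

theorem rot_comm : ∀ k ∈ Ev, ∀ j : ZMod (2 * 6), (j - k + 3).val ≤ 6 → ∃ r : Fin 6,
    k + 2 * (r.val : ZMod (2 * 6)) = 4 ∧ j + 2 * (r.val : ZMod (2 * 6)) ∈ ({1, 2, 3, 4, 5, 6, 7} : Finset (ZMod (2 * 6))) := by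
  decide +kernel

/-- a long root group commutes with all root groups at distance at most three -/
theorem comm_even {k j : ZMod (2 * 6)} (hk : k ∈ Ev) (h : (j - k + 3).val ≤ 6) :
    ∀ x ∈ c.X k, ∀ g ∈ c.X j, x * g = g * x := by
  obtain ⟨r, h4, hj⟩ := rot_comm k hk j h
  exact H148.Hex.comm_of_maps c (c.maps_rot r.val) (comm4_all c _ hj) h4 rfl

theorem nz_of_comm {k j : ZMod (2 * 6)} (hk : k ∈ Ev) (h : (j - k + 3).val ≤ 6) : c.X j ≤ nz (c.X k) :=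
  fun g hg => mem_nz_of_comm fun x hx => (comm_even c hk h x hx g hg).symm

/-- transport of `x = kk a b` -/
theorem exists_kk {k : ZMod (2 * 6)} (hk : k ∈ Ev) {z : L} (hz : z ∈ c.X (k + 2)) :
    ∃ x ∈ c.X k, ∃ y ∈ c.X (k + 4), z = kk x y := by
  have h2 : ∀ k ∈ Ev, ∃ r : Fin 6, k + 2 * (r.val : ZMod (2 * 6)) = 2 := by decide +kernel
  obtain ⟨r, hr⟩ := h2 k hk
  have hn := c.maps_rot r.val
  obtain ⟨n, hne⟩ : ∃ n, n = (c.n1 * c.n6) ^ r.val := ⟨_, rfl⟩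
  rw [← hne] at hn
  have e4 : k + 2 + 2 * (r.val : ZMod (2 * 6)) = 4 := by rw [add_right_comm, hr]; decide
  have e6 : k + 4 + 2 * (r.val : ZMod (2 * 6)) = 6 := by rw [add_right_comm, hr]; decide
  have h1 : n * z * n⁻¹ ∈ c.X 4 := maps_mem hn hz e4
  obtain ⟨t, ht, et⟩ := (c.par.mem4 _).1 h1
  have h3 := c.par.rel.c26 t 1 ht (map_one σ)
  rw [mul_one, et] at h3
  refine ⟨n⁻¹ * c.x2 t * n, maps_mem' hn (c.mem2 ht) hr, n⁻¹ * c.x6 1 * n, maps_mem' hn (c.mem6 (map_one σ)) e6, ?_⟩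
  have h5 : kk (n⁻¹ * c.x2 t * n) (n⁻¹ * c.x6 1 * n) = n⁻¹ * kk (c.x2 t) (c.x6 1) * n := by
    unfold kk; group
  rw [h5, h3]
  group

theorem exists_ne_one (k : ZMod (2 * 6)) : ∃ x ∈ c.X k, x ≠ 1 := by
  obtain ⟨r, hr | hr⟩ := idx_rot k
  · refine ⟨_, maps_mem (c.maps_rot r.val) (c.mem1 1) hr.symm, ?_⟩
    intro h
    have h1 : c.x1 1 = 1 := conj_eq_one_iff.1 h
    exact one_ne_zero (c.x1_inj (h1.trans c.x1_zero.symm))
  · refine ⟨_, maps_mem (c.maps_rot r.val) (c.mem6 (map_one σ)) hr.symm, ?_⟩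
    intro h
    have h1 : c.x6 1 = 1 := conj_eq_one_iff.1 h
    exact one_ne_zero (c.x6_inj (map_one σ) (map_zero σ) (h1.trans c.x6_zero.symm))

theorem X_inj {k j : ZMod (2 * 6)} (h : c.X k = c.X j) : k = j := by
  by_contra hne
  obtain ⟨x, hx, h1⟩ := exists_ne_one c k
  exact h1 (c.eq_one_of_ne hne hx (h ▸ hx))

/-- `X k` and `X (k + 4)` do not commute -/
theorem not_comm {k : ZMod (2 * 6)} (hk : k ∈ Ev) : ¬ ∀ x ∈ c.X k, ∀ y ∈ c.X (k + 4), x * y = y * x := by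
  intro h
  obtain ⟨z, hz, h1⟩ := exists_ne_one c (k + 2)
  obtain ⟨x, hx, y, hy, e⟩ := exists_kk c hk hz
  apply h1
  rw [e]
  unfold kk
  have := h x hx y hy
  calc x⁻¹ * y⁻¹ * x * y = x⁻¹ * y⁻¹ * (x * y) := by group
    _ = x⁻¹ * y⁻¹ * (y * x) := by rw [this]
    _ = 1 := by group

/-! ### Normalisers of long root groups in `U` -/

/-- the image of `Q 4` under `n4` meets the normaliser of `X 10` trivially -/
theorem eq_one_of_nz10 {q : L} (hq : q ∈ c.Q4) (h : cj q (c.X 10) = c.X 10) : q = 1 := by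
  -- `q` centralises `K 4`
  have h4 : ∀ x ∈ c.X 4, q * x = x * q := fun x hx => c.comm4 (c.Q4_le_Pos hq) hx
  have h1 : ∀ a, (MulAut.conj q).toMonoidHom (c.p4 (up a)) = c.p4 (up a) := by
    intro a
    change q * c.p4 (up a) * q⁻¹ = _
    rw [h4 _ (c.p4_up_mem a)]
    group
  have h2 := sl_fix c.p4 c.p4 (MulAut.conj q).toMonoidHom h1 (fun b => by
    have : q * c.p4 (lo b) * q⁻¹ ∈ c.X 10 := by
      rw [← h]
      exact conj_mem_cj (c.p4_lo_mem b)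
    obtain ⟨b', hb'⟩ := c.mem_X10.1 this
    exact ⟨b', hb'.symm⟩) (fun a b e => by
    have h5 : c.p4 (up a) ∈ c.X 10 := by rw [e]; exact c.p4_lo_mem b
    have h6 := c.eq_one_of_ne (by decide) (c.p4_up_mem a) h5
    have h7 : up a = up 0 := c.p4_inj (by rw [h6, up_zero, map_one])
    have h8 := congrArg (fun x => ent x 0 1) h7
    simpa using h8)
  have h3 : (MulAut.conj q).toMonoidHom.comp c.p4 = c.p4 := hom_ext _ _ (fun a => h1 a) (fun b => h2 b)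
  have h5 : q * c.n4 * q⁻¹ = c.n4 := DFunLike.congr_fun h3 (wm 1 one_ne_zero)
  have h6 : c.n4 * q * c.n4⁻¹ = q := by
    calc c.n4 * q * c.n4⁻¹ = (q * c.n4 * q⁻¹) * q * c.n4⁻¹ := by rw [h5]
      _ = q := by group
  have h7 : c.n4 * q * c.n4⁻¹ ∈ Sg c.X Neg := conj_Sg c.maps_n4 (by decide +kernel) hq
  rw [h6] at h7
  exact c.eq_one_of_pos_neg (c.Q4_le_Pos hq) h7

theorem eq_one_of_nz4 {v : L} (hv : v ∈ Sg c.X {8, 9, 10, 11, 0}) (h : cj v (c.X 4) = c.X 4) : v = 1 := by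
  obtain ⟨n, hne⟩ : ∃ n, n = c.n4 := ⟨_, rfl⟩
  have h1 : c.n4 * v * c.n4⁻¹ ∈ c.Q4 := conj_Sg c.maps_n4 (by decide +kernel) hv
  have h2 : cj (c.n4 * v * c.n4⁻¹) (c.X 10) = c.X 10 := by
    have e4 : cj c.n4 (c.X 4) = c.X 10 := cj_of_maps c c.maps_n4 4
    rw [← e4, ← cj_mul]
    have : c.n4 * v * c.n4⁻¹ * c.n4 = c.n4 * v := by group
    rw [this, cj_mul, h]
  have h3 := eq_one_of_nz10 c h1 h2
  exact conj_eq_one_iff.1 h3

/-- the roots of `U` centralising `X k` -/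
def Cs (k : ZMod (2 * 6)) : Finset (ZMod (2 * 6)) := Pos.filter fun j => (j - k + 3).val ≤ 6

/-- the other roots of `U` -/
def Ns (k : ZMod (2 * 6)) : Finset (ZMod (2 * 6)) := Pos.filter fun j => ¬ (j - k + 3).val ≤ 6

theorem Cs_le {k : ZMod (2 * 6)} (hk : k ∈ Ev) : Sg c.X (Cs k) ≤ nz (c.X k) :=
  Sg_le fun _ hj => nz_of_comm c hk (Finset.mem_filter.1 hj).2

theorem rotN : ∀ k ∈ Ev, ∃ r : Fin 6, k + 2 * (r.val : ZMod (2 * 6)) = 4 ∧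
    ∀ j ∈ Ns k, j + 2 * (r.val : ZMod (2 * 6)) ∈ ({8, 9, 10, 11, 0} : Finset (ZMod (2 * 6))) := by decide +kernel

theorem eq_one_of_Ns {k : ZMod (2 * 6)} (hk : k ∈ Ev) {v : L} (hv : v ∈ Sg c.X (Ns k)) (h : cj v (c.X k) = c.X k) :
    v = 1 := by
  obtain ⟨r, h4, hN⟩ := rotN k hk
  have hn := c.maps_rot r.val
  generalize (c.n1 * c.n6) ^ r.val = n at hn
  have h1 : n * v * n⁻¹ ∈ Sg c.X {8, 9, 10, 11, 0} := conj_Sg hn hN hv
  have h2 : cj (n * v * n⁻¹) (c.X 4) = c.X 4 := by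
    have e4 : cj n (c.X k) = c.X 4 := by rw [cj_of_maps c hn, h4]
    rw [← e4, ← cj_mul]
    have : n * v * n⁻¹ * n = n * v := by group
    rw [this, cj_mul, h]
  exact conj_eq_one_iff.1 (eq_one_of_nz4 c h1 h2)

theorem split_idx : ∀ k ∈ Ev, (∃ j : Fin 7, low j = Ns k ∧ high j = Cs k) ∨ (∃ j : Fin 7, low j = Cs k ∧ high j = Ns k) := by
  decide +kernel

theorem split_NC {k : ZMod (2 * 6)} (hk : k ∈ Ev) {u : L} (hu : u ∈ Sg c.X Pos) :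
    ∃ a ∈ Sg c.X (Ns k), ∃ b ∈ Sg c.X (Cs k), u = a * b := by
  rcases split_idx k hk with ⟨j, h1, h2⟩ | ⟨j, h1, h2⟩
  · obtain ⟨a, ha, b, hb, e⟩ := c.split j hu
    rw [h1] at ha
    rw [h2] at hb
    exact ⟨a, ha, b, hb, e⟩
  · obtain ⟨b, hb, a, ha, e⟩ := c.split' j hu
    rw [h1] at ha
    rw [h2] at hb
    exact ⟨b, hb, a, ha, e⟩

/-- **the normaliser of `X k` in `U`** -/
theorem mem_Cs_of_nz {k : ZMod (2 * 6)} (hk : k ∈ Ev) {u : L} (hu : u ∈ Sg c.X Pos) (h : cj u (c.X k) = c.X k) :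
    u ∈ Sg c.X (Cs k) := by
  obtain ⟨a, ha, b, hb, rfl⟩ := split_NC c hk hu
  have h1 : cj b (c.X k) = c.X k := Cs_le c hk hb
  rw [cj_mul, h1] at h
  rw [eq_one_of_Ns c hk ha h, one_mul]
  exact hb

theorem nz_inf {k : ZMod (2 * 6)} (hk : k ∈ Ev) {V : Subgroup L} (hV : V ≤ Sg c.X Pos) :
    V ⊓ nz (c.X k) = V ⊓ Sg c.X (Cs k) := by
  ext u
  rw [Subgroup.mem_inf, Subgroup.mem_inf]
  constructor
  · rintro ⟨h1, h2⟩
    exact ⟨h1, mem_Cs_of_nz c hk (hV h1) h2⟩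
  · rintro ⟨h1, h2⟩
    exact ⟨h1, Cs_le c hk h2⟩

end Cfsg.Agent.H812.D4
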