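import Cfsg.Agent.H812.D4.Fin
import Cfsg.Agent.H744.SepRgd
import Cfsg.Agent.Cit.HexD4
import Cfsg.Agent.KFacts.RgdFilt
import Cfsg.Agent.KFacts.RgdSyl
import Cfsg.Agent.ChevalleyStructure.TwD4Card
import Cfsg.Agent.Nodes.RGDTwD4
import Cfsg.Agent.S1067
import Cfsg.Agent.S1106

/-!
# Five pairwise apart subgroups of `³D₄(q)` (helper812, for S5906, S5907)
-/

set_option autoImplicit false

namespace Cfsg.Agent.H812.D4.Row

open CoxeterSystem Cfsg.Agent.ChevalleyStructure.CoxeterGeom Cfsg.Agent.Tits.Roots Cfsg.Agent.Tits.Core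
  Cfsg.Agent.Tits.RootComb Cfsg.Agent.Tits.Exchange Cfsg.Agent.Nodes.Reps Cfsg.Agent.Nodes.BNOf
  Cfsg.Agent.Nodes.StabComb Cfsg.Agent.Nodes.Bruhat Cfsg.Agent.Nodes.OppDec Cfsg.Agent.Nodes.LeviDec
  Cfsg.Agent.H436 Cfsg.Agent.H744.SepRgd
open Cfsg.Lie Cfsg.Agent.ChevalleyStructure Cfsg.Agent.Nodes.RGDTwD4
open Cfsg.Agent.Nodes.RGDTwGen Cfsg.Agent.Nodes.RGDChev Cfsg.Agent.Nodes.RGDFold
open Cfsg.Agent.H940

section

variable {I W : Type*} [Fintype I] [DecidableEq I] [Group W] {M : CoxeterMatrix I}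
  {cs : CoxeterSystem M W} {A : I → I → ℤ} {h : IsCartan M A}

theorem PosJ_one [Finite W] (i : I) : PosJ cs h {i} = {sr i} := by
  ext x
  rw [Set.mem_singleton_iff]
  constructor
  · intro hx
    by_contra hne
    obtain ⟨k, hk, h1⟩ := exists_coeff hx.1 hx.2.1 hne
    have := hx.2.2 k hk
    omega
  · rintro rfl
    exact sr_mem_PosJ rfl

end

variable {K : Type} [Field K] [Fintype K] {q : ℕ} {φ : K →+* K}

theorem card_X (hφ : ∀ x, φ x = x ^ q) (hq : 1 < q) (hK : Fintype.card K = q ^ 3) (i : Fin 2) :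
    Nat.card ↥(X φ q (sr i)) = if i = 0 then q else q ^ 3 := by
  have hle := D4Fixed.twisted_le_fix hK hφ
  have key : ∀ (S : Subgroup (GL chevD4.Idx K)), R chevD4 hp K J (D4Fixed.sig φ) (sr i) = S ⊓ D4Fixed.fix φ →
      Nat.card ↥(X φ q (sr i)) = Nat.card {x : GL chevD4.Idx K // x ∈ (S : Set (GL chevD4.Idx K)) ∧
        x ∈ twistedD4 K q} := by
    intro S hS
    unfold X
    rw [hS]
    refine Nat.card_congr
      { toFun := fun x => ⟨x.1.1, (Subgroup.mem_inf.1 (Subgroup.mem_subgroupOf.1 x.2)).1, x.1.2⟩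
        invFun := fun x => ⟨⟨x.1, x.2.2⟩, Subgroup.mem_subgroupOf.2 (Subgroup.mem_inf.2 ⟨x.2.1, hle x.2.2⟩)⟩
        left_inv := fun x => rfl
        right_inv := fun x => rfl }
  fin_cases i
  · exact (key _ (R0 φ)).trans (TwD4Card.card_X0 hq hK hφ hle)
  · exact (key _ (R1 φ)).trans (TwD4Card.card_X1 hK hφ hle)

theorem fin2 : ∀ J : Finset (Fin 2), J.Nonempty → J ≠ Finset.univ → ∃ i : Fin 2, J = {i} := by decide

/-- **the row `³D₄(q)` of S5906 and S5907** -/
theorem d4 (K : Type) [Field K] [Fintype K] (q : ℕ) (hq : IsPrimePow q) (hK : Fintype.card K = q ^ 3) :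
    MaxCls.Sep 5 ↥(twistedD4 K q) := by
  obtain ⟨σ, hσ, ⟨c⟩⟩ := Cit.HexD4.exists_d4 hK
  obtain ⟨φ, hφ⟩ := D4Fixed.exists_frob hq hK
  have hfinG : Finite ↥(twistedD4 K q) := inferInstance
  obtain ⟨p, hcp⟩ := CharP.exists K
  have hp' : Fact p.Prime := ⟨CharP.char_is_prime K p⟩
  have h2 : 2 ≤ q := hq.two_le
  have hq' := hq
  obtain ⟨r, f, hr, hf, hrf⟩ := hq'
  have hr' : r.Prime := hr.nat_prime
  have hpr : p = r := by
    obtain ⟨n, hpp, hn⟩ := FiniteField.card K p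
    have h3 : p ∣ r := by
      have h4 : p ∣ Fintype.card K := by rw [hn]; exact dvd_pow_self p n.pos.ne'
      rw [hK, ← hrf, ← pow_mul] at h4
      exact hpp.dvd_of_dvd_pow h4
    exact (Nat.prime_dvd_prime_iff_eq hpp hr').1 h3
  subst hpr
  -- the fixed field
  have hF : Nat.card ↥(Cit.HexBase.fx σ) = q :=
    D4U.card_fix_field (φ := (σ : K →+* K)) hq.one_lt hK fun x => hσ x
  have hE : Nat.card K = Nat.card ↥(Cit.HexBase.fx σ) ^ 3 := by
    rw [hF, Nat.card_eq_fintype_card, hK]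
  have hne : ∃ y : K, σ y ≠ y := by
    by_contra hcon
    push Not at hcon
    have h1 : Cit.HexBase.fx σ = ⊤ := by
      rw [eq_top_iff]
      intro x _
      exact hcon x
    rw [h1] at hE hF
    have h3 : Nat.card ↥(⊤ : Subfield K) = Nat.card K := Nat.card_congr (Subfield.topEquiv (K := K)).toEquiv
    rw [h3] at hF
    rw [Nat.card_eq_fintype_card, hK] at hF
    have : q ^ 1 < q ^ 3 := Nat.pow_lt_pow_right (by omega) (by norm_num)
    rw [pow_one] at this
    omega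
  -- the root datum
  have hfin : Finite CoxeterMatrix.G₂.Group := Nodes.RGDFold.finite_W (hp := hp)
    CoxeterMatrix.G₂.toCoxeterSystem isCartan foldData
  have R := rgd CoxeterMatrix.G₂.toCoxeterSystem hK hφ p
  have hG := Cfsg.Agent.KFacts.RgdFilt.GG_eq_top (T := T K q) (G1_eq_top CoxeterMatrix.G₂.toCoxeterSystem hK hφ)
  obtain ⟨u, hu⟩ := exists_prim (q := q) (e := 12) h2 (by norm_num) (by omega)
  have hpq : p ∣ q := by rw [← hrf]; exact dvd_pow_self p hf.ne'
  have hup : u ≠ p := by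
    rintro rfl
    exact hu.not_dvd hpq
  have hcard := S1067.result hq hK
  have hT : Nat.card ↥(T K q) = (q - 1) ^ 2 * (q ^ 2 + q + 1) := by
    rw [← S1106.result hq hK]
    exact Nat.card_congr (Subgroup.subgroupOfEquivOfLe inf_le_right).toEquiv
  have huY : u ∣ Nat.card ↥(twistedD4 K q) := by
    have h3 := hu.dvd (dvd_refl 12)
    have h4 : q ^ 12 - 1 ∣ (q ^ 2 - 1) * (q ^ 8 + q ^ 4 + 1) * (q ^ 2 + 1) := by
      refine Dvd.intro 1 ?_
      obtain ⟨x, rfl⟩ : ∃ x, q = x + 1 := ⟨q - 1, by omega⟩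
      have e1 : (x + 1) ^ 2 - 1 = x * (x + 2) := by
        apply Nat.sub_eq_of_eq_add; ring
      have e2 : (x + 1) ^ 12 - 1 = x * (x + 2) * ((x + 1) ^ 8 + (x + 1) ^ 4 + 1) * ((x + 1) ^ 2 + 1) := by
        apply Nat.sub_eq_of_eq_add; ring
      rw [e1, e2, mul_one]
    have h5 := h3.trans h4
    rcases hu.prime.dvd_mul.1 h5 with h6 | h6
    · rw [hcard]
      rcases hu.prime.dvd_mul.1 h6 with h7 | h7
      · exact absurd h7 (hu.not_dvd_sub (by norm_num))
      · exact Dvd.dvd.mul_left h7 _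
    · exact absurd h6 (hu.not_dvd_add (m := 2) (by norm_num))
  have hpY : p ∣ Nat.card ↥(twistedD4 K q) := by
    rw [hcard]
    simp only [mul_assoc]
    exact Dvd.dvd.mul_right (hpq.trans (dvd_pow_self _ (by norm_num))) _
  have : Fact u.Prime := ⟨hu.prime⟩
  obtain ⟨x, hx⟩ := exists_prime_orderOf_dvd_card' u huY
  have hcx : Nat.card (Subgroup.zpowers x) = u := by rw [Nat.card_zpowers, hx]
  have hD : Subgroup.zpowers x ≠ ⊤ := by
    intro htop
    rw [htop, Subgroup.card_top] at hcx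
    rw [hcx] at hpY
    exact hup ((Nat.prime_dvd_prime_iff_eq Fact.out hu.prime).1 hpY).symm
  have hDP : ∀ (g : ↥(twistedD4 K q)) (J : Set (Fin 2)), J ≠ Set.univ →
      ¬ (cj g (Subgroup.zpowers x) ≤ PJ CoxeterMatrix.G₂.toCoxeterSystem isCartan (T K q) (X φ q) J) := by
    intro g J hJ hle
    refine H396.Crit.not_dvd_card R hu.prime hup ?_ ?_ hJ hle (by rw [hcx])
    · rw [hT]
      intro h3
      rcases hu.prime.dvd_mul.1 h3 with h4 | h4
      · have h5 := hu.prime.dvd_of_dvd_pow h4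
        exact hu.not_dvd_sub (m := 1) (by norm_num) (by rwa [pow_one])
      · refine hu.not_dvd_sub (m := 3) (by norm_num) (h4.trans (Dvd.intro_left (q - 1) ?_))
        obtain ⟨m, rfl⟩ : ∃ m, q = m + 1 := ⟨q - 1, by omega⟩
        rw [Nat.add_sub_cancel]
        have : (m + 1) ^ 3 = m * ((m + 1) ^ 2 + (m + 1) + 1) + 1 := by ring
        rw [this, Nat.add_sub_cancel]
    · intro J hne huniv _ hd
      obtain ⟨i, rfl⟩ := fin2 J hne huniv
      have h3 : RGD.Sup (X φ q) (PosJ CoxeterMatrix.G₂.toCoxeterSystem isCartan (({i} : Finset (Fin 2)) : Set (Fin 2))) =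
          X φ q (sr i) := by
        rw [Finset.coe_singleton, PosJ_one]
        apply le_antisymm
        · exact RGD.Sup_le fun x hx => by rw [Set.mem_singleton_iff.1 hx]
        · exact RGD.le_Sup rfl
      rw [h3, card_X hφ (by omega) hK, Finset.card_singleton, pow_one, sub_neg_eq_add] at hd
      by_cases hi : i = 0
      · rw [if_pos hi] at hd
        refine hu.not_dvd_add (m := 1) (by norm_num) ?_
        rw [pow_one]
        exact_mod_cast hd
      · rw [if_neg hi] at hd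
        refine hu.not_dvd_add (m := 3) (by norm_num) ?_
        exact_mod_cast hd
  -- the parabolic subgroups
  have hidx : ∀ J : Set (Fin 2), ¬ p ∣ (PJ CoxeterMatrix.G₂.toCoxeterSystem isCartan (T K q) (X φ q) J).index := by
    intro J hd
    have h3 : ¬ p ∣ (RGD.Sup (X φ q) (RGD.Pos CoxeterMatrix.G₂.toCoxeterSystem isCartan)).index := by
      have := KFacts.RgdSyl.not_dvd_relIndex R
      rwa [hG, Subgroup.relIndex_top_right] at this
    have h4 : RGD.Sup (X φ q) (RGD.Pos CoxeterMatrix.G₂.toCoxeterSystem isCartan) ≤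
        PJ CoxeterMatrix.G₂.toCoxeterSystem isCartan (T K q) (X φ q) J := RGD.U_le_B.trans B_le_PJ
    exact h3 (hd.trans (Subgroup.index_dvd_of_le h4))
  have hn0 : ∀ i : Fin 2, ({i} : Set (Fin 2)) ≠ Set.univ := by
    intro i h3
    have h4 : (1 - i : Fin 2) ∈ ({i} : Set (Fin 2)) := by rw [h3]; trivial
    rw [Set.mem_singleton_iff] at h4
    clear h3
    revert h4
    revert i
    decide
  have hn : ∀ i : Fin 2, PJ CoxeterMatrix.G₂.toCoxeterSystem isCartan (T K q) (X φ q) {i} ≠ ⊤ := fun i h3 =>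
    hn0 i ((PJ_eq_top_iff R hG).1 h3)
  have h12 := apart_PJ R hG (J := {0}) (K := {1}) (by
    ext i
    fin_cases i <;> simp)
  refine sep_five_hex c hE hne (p := p) (n := f) (by rw [hF, hrf]) ?_ (r := u) (by rw [hF]; exact hu) (hn 0) (hn 1) hD h12
    (apart_PJ_of_not_le R hG hDP) (apart_PJ_of_not_le R hG hDP) (hidx _) (hidx _) (by rw [hcx])
  rw [hF, hcard]
  ring

end Cfsg.Agent.H812.D4.Row
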