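import Cfsg.Agent.H812.D4.Long

/-!
# Groups of type `G₂` and `³D₄`, any characteristic: subsystem subgroups and their points (helper812)

`A` an additive subgroup of `E` (`E`, `F` or `0`); `VA A` = the elements of `U` with short root coordinates in `A`;
`SV A` = the conjugates of the long root groups `X k` under `VA A`. It is stable under `n1`, `n6`, `VA A`.
-/

set_option autoImplicit false

namespace Cfsg.Agent.H812.D4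

open Cfsg.Agent.SplitTwo Cfsg.Agent.TitsThree.RankTwoZ Cfsg.Agent.Lib.SL2Mat Cfsg.Agent.Cit.HexBase
  Cfsg.Agent.Cit.HexBase.HexGrp Cfsg.Agent.H812.D4.Pts

universe u

variable {E : Type*} [Field E] {σ : E ≃+* E} {L : Type u} [Group L] (c : HexGrp σ L)

theorem conj5 {G : Type*} [Group G] (n a b d e f : G) : n * (a * b * d * e * f) * n⁻¹ =
    (n * a * n⁻¹) * (n * b * n⁻¹) * (n * d * n⁻¹) * (n * e * n⁻¹) * (n * f * n⁻¹) := by group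

theorem wm_up_eq {K : Type*} [Field K] {a : K} (ha : a ≠ 0) :
    wm (1 : K) one_ne_zero * up a = up (-a⁻¹) * dg (-a⁻¹) (neg_ne_zero.2 (inv_ne_zero ha)) * lo a⁻¹ := by
  refine ext_ent ?_ ?_ ?_ ?_ <;> simp [ent_mul, ha]

theorem n1_x1_mul {a : E} (ha : a ≠ 0) :
    c.n1 * c.x1 a = c.x1 (-a⁻¹) * c.pb (dg (-a⁻¹) (neg_ne_zero.2 (inv_ne_zero ha))) * c.pb (lo a⁻¹) := by
  rw [← c.pb_up, ← c.pb_up, ← map_mul, ← map_mul, ← wm_up_eq ha, map_mul]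
  rfl

theorem n6_x6_mul {t : ↥(fx σ)} (ht : t ≠ 0) :
    c.n6 * c.x6 t = c.x6 ((-t⁻¹ : ↥(fx σ)) : E) * c.pa (dg (-t⁻¹) (neg_ne_zero.2 (inv_ne_zero ht))) *
      c.pa (lo t⁻¹) := by
  rw [← c.pa_up, ← c.pa_up, ← map_mul, ← map_mul, ← wm_up_eq ht, map_mul]
  rfl

/-! ### `n1` on the coordinates of `Q 4` -/

/-- `x1 a * x6 t * (x1 a)⁻¹` -/
theorem nf_P (a t : E) (ht : σ t = t) : c.NF (c.x1 a * c.x6 t * (c.x1 a)⁻¹) (-(t * nrm σ a)) (-(t * shp σ a))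
    (-(t * a)) t := by
  have h := (c.nf6 ht).conj1 (-a)
  rw [c.x1_neg, inv_inv] at h
  refine h.congr rfl ?_ ?_ ?_ rfl
  · rw [nrm_neg]
    unfold trc
    simp
  · rw [shp_neg]
    unfold crs
    simp
  · ring

theorem comm76 {g x : L} (hg : g ∈ c.X 7) (hx : x ∈ c.X 6) : g * x = x * g :=
  (comm_even c (k := 6) (j := 7) (by decide) (by decide) x hx g hg).symm

theorem n1_P {a : E} (ha : a ≠ 0) (t : E) (ht : σ t = t) :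
    c.n1 * (c.x1 a * c.x6 t * (c.x1 a)⁻¹) * c.n1⁻¹ =
      c.x1 (-a⁻¹) * c.x6 (-(nrm σ a * t)) * (c.x1 (-a⁻¹))⁻¹ := by
  have h1 := n1_x1_mul c ha
  have h2 : c.pb (lo a⁻¹) * c.x6 t = c.x6 t * c.pb (lo a⁻¹) := comm76 c ((c.pb_lo _).2 ⟨_, rfl⟩) (c.mem6 ht)
  have h3 := (c.act_b (-a⁻¹) (neg_ne_zero.2 (inv_ne_zero ha))).a6 t ht
  rw [nrm_neg, nrm_inv] at h3
  have e : (-(nrm σ a)⁻¹)⁻¹ * t = -(nrm σ a * t) := by
    rw [inv_neg, inv_inv]; ring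
  rw [e] at h3
  calc c.n1 * (c.x1 a * c.x6 t * (c.x1 a)⁻¹) * c.n1⁻¹
      = (c.n1 * c.x1 a) * c.x6 t * (c.n1 * c.x1 a)⁻¹ := by group
    _ = c.x1 (-a⁻¹) * (c.pb (dg (-a⁻¹) (neg_ne_zero.2 (inv_ne_zero ha))) * (c.pb (lo a⁻¹) * c.x6 t) *
        (c.pb (lo a⁻¹))⁻¹ * (c.pb (dg (-a⁻¹) (neg_ne_zero.2 (inv_ne_zero ha))))⁻¹) * (c.x1 (-a⁻¹))⁻¹ := by
        rw [h1]; group
    _ = c.x1 (-a⁻¹) * (c.pb (dg (-a⁻¹) (neg_ne_zero.2 (inv_ne_zero ha))) * c.x6 t *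
        (c.pb (dg (-a⁻¹) (neg_ne_zero.2 (inv_ne_zero ha))))⁻¹) * (c.x1 (-a⁻¹))⁻¹ := by
        rw [h2]; group
    _ = _ := by rw [h3]

theorem n1_x4' {t : E} (ht : σ t = t) : c.n1 * c.x4 t * c.n1⁻¹ = c.x4 t := by
  have := c.pb_comm4 (wm 1 one_ne_zero) (c.mem4 ht)
  rw [show c.n1 = c.pb (wm 1 one_ne_zero) from rfl, this]
  group

variable {c}

theorem n1_aux {a t d e : E} (ha : a ≠ 0) (ht : σ t = t) (h5 : c.n1 * c.x5 (-(t * a)) * c.n1⁻¹ = c.x3 d)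
    (h3 : c.n1 * c.x3 (-(t * shp σ a)) * c.n1⁻¹ = c.x5 e) : d = t * a ∧ e = -(t * shp σ a) := by
  obtain ⟨f2, f6, b4, f4, eq⟩ := nf_P c a t ht
  have hN := nrm_ne (σ := σ) ha
  have h6 := n1_x6 (c := c) t ht
  have h2 := n1_x2 (c := c) _ f2
  have h4 := n1_x4' c f4
  have key : c.n1 * (c.x1 a * c.x6 t * (c.x1 a)⁻¹) * c.n1⁻¹ =
      c.x6 (-(t * nrm σ a)) * c.x5 e * c.x4 b4 * c.x3 d * c.x2 (-t) := by
    rw [eq, conj5, h2, h3, h4, h5, h6]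
  have k1 : c.NF (c.n1 * (c.x1 a * c.x6 t * (c.x1 a)⁻¹) * c.n1⁻¹) (-t) d e (-(t * nrm σ a)) := by
    rw [key]
    exact (((((c.nf6 f2).mul (c.nf5 e)).mul (c.nf4 f4)).mul (c.nf3 d)).mul (c.nf2 (neg_fix ht))).congr rfl
      (by ring) (by ring) (by ring) (by ring)
  rw [n1_P c ha t ht] at k1
  have k2 := nf_P c (-a⁻¹) (-(nrm σ a * t)) (neg_fix (mul_fix (c.nf a) ht))
  obtain ⟨-, e3, e5, -⟩ := k1.unique k2
  have hsh : shp σ a ≠ 0 := by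
    unfold shp
    exact mul_ne_zero ((map_ne_zero σ).2 ha) ((map_ne_zero σ).2 ((map_ne_zero σ).2 ha))
  have hNs : nrm σ a = a * shp σ a := by unfold nrm shp; ring
  constructor
  · rw [e3, shp_neg]
    have : shp σ a⁻¹ = (shp σ a)⁻¹ := by unfold shp; rw [map_inv₀, map_inv₀, mul_inv]
    rw [this, hNs]
    field_simp
  · rw [e5, hNs]
    field_simp

variable (c)

theorem n1_x5 (b : E) : c.n1 * c.x5 b * c.n1⁻¹ = c.x3 (-b) := by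
  by_cases hb : b = 0
  · subst hb
    rw [neg_zero, c.x5_zero, c.x3_zero]
    group
  obtain ⟨d, hd⟩ := (c.par.mem3 _).1 (maps_mem c.maps_n1 (c.mem5 (-(1 * -b))) (by decide))
  obtain ⟨e, he⟩ := (c.par.mem5 _).1 (maps_mem c.maps_n1 (c.mem3 (-(1 * shp σ (-b)))) (by decide))
  have h := (n1_aux (neg_ne_zero.2 hb) (map_one σ) hd.symm he.symm).1
  rw [one_mul] at h
  rw [one_mul, neg_neg] at hd
  rw [← hd, h]

theorem n1_x3 (b : E) : c.n1 * c.x3 b * c.n1⁻¹ = c.x5 b := by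
  by_cases hb : b = 0
  · subst hb
    rw [c.x5_zero, c.x3_zero]
    group
  have hN := nrm_ne (σ := σ) hb
  have hf : σ (-nrm σ b) = -nrm σ b := neg_fix (c.nf b)
  have hsh : -(-nrm σ b * shp σ b⁻¹) = b := by
    unfold nrm shp
    have h1 : σ b ≠ 0 := (map_ne_zero σ).2 hb
    have h2 : σ (σ b) ≠ 0 := (map_ne_zero σ).2 h1
    rw [map_inv₀, map_inv₀]
    field_simp
  obtain ⟨d, hd⟩ := (c.par.mem3 _).1 (maps_mem c.maps_n1 (c.mem5 (-(-nrm σ b * b⁻¹))) (by decide))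
  obtain ⟨e, he⟩ := (c.par.mem5 _).1 (maps_mem c.maps_n1 (c.mem3 (-(-nrm σ b * shp σ b⁻¹))) (by decide))
  have h := (n1_aux (inv_ne_zero hb) hf hd.symm he.symm).2
  rw [hsh] at he h
  rw [← he, h]

variable {c}

/-- `n1` on the coordinates -/
theorem n1_NF {g : L} {b2 b3 b5 b6 : E} (h : c.NF g b2 b3 b5 b6) :
    c.NF (c.n1 * g * c.n1⁻¹) (-b6) (-b5) b3 b2 := by
  obtain ⟨f2, f6, b4, f4, rfl⟩ := h
  have key : c.n1 * (c.x2 b2 * c.x3 b3 * c.x4 b4 * c.x5 b5 * c.x6 b6) * c.n1⁻¹ =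
      c.x6 b2 * c.x5 b3 * c.x4 b4 * c.x3 (-b5) * c.x2 (-b6) := by
    rw [conj5, n1_x2 (c := c) _ f2, n1_x3 c b3, n1_x4' c f4, n1_x5 c b5, n1_x6 (c := c) _ f6]
  rw [key]
  exact (((((c.nf6 f2).mul (c.nf5 b3)).mul (c.nf4 f4)).mul (c.nf3 (-b5))).mul (c.nf2 (neg_fix f6))).congr rfl
    (by ring) (by ring) (by ring) (by ring)

/-! ### The groups `VA A` -/

/-- closure properties of the short root parameters -/
structure GoodA (σ : E ≃+* E) (A : AddSubgroup E) : Prop where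
  smul : ∀ t, σ t = t → ∀ a ∈ A, t * a ∈ A
  shp : ∀ a ∈ A, shp σ a ∈ A
  crs : ∀ a ∈ A, ∀ b ∈ A, crs σ a b ∈ A
  inv : ∀ a ∈ A, a⁻¹ ∈ A

variable (c)

/-- elements of `Q 4` with short coordinates in `A` -/
def V' (A : AddSubgroup E) : Subgroup L where
  carrier := {g | ∃ b2 b3 b5 b6, c.NF g b2 b3 b5 b6 ∧ b3 ∈ A ∧ b5 ∈ A}
  mul_mem' := by
    rintro a b ⟨b2, b3, b5, b6, h, h3, h5⟩ ⟨d2, d3, d5, d6, h', h3', h5'⟩
    exact ⟨_, _, _, _, h.mul h', add_mem h3 h3', add_mem h5 h5'⟩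
  one_mem' := ⟨0, 0, 0, 0, NF.one, zero_mem _, zero_mem _⟩
  inv_mem' := by
    rintro a ⟨b2, b3, b5, b6, h, h3, h5⟩
    exact ⟨_, _, _, _, h.inv, neg_mem h3, neg_mem h5⟩

theorem V'_le_Q4 (A : AddSubgroup E) : V' c A ≤ c.Q4 := by
  rintro g ⟨b2, b3, b5, b6, h, -, -⟩
  exact h.mem

variable {c}

theorem V'_conj1 {A : AddSubgroup E} (hA : GoodA σ A) {s : E} (hs : s ∈ A) {v : L} (hv : v ∈ V' c A) :
    (c.x1 s)⁻¹ * v * c.x1 s ∈ V' c A := by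
  obtain ⟨b2, b3, b5, b6, h, h3, h5⟩ := hv
  refine ⟨_, _, _, _, h.conj1 s, ?_, ?_⟩
  · exact sub_mem (sub_mem h3 (hA.crs s hs b5 h5)) (hA.smul b6 h.2.1 _ (hA.shp s hs))
  · exact add_mem h5 (hA.smul b6 h.2.1 s hs)

theorem V'_conj1' {A : AddSubgroup E} (hA : GoodA σ A) {s : E} (hs : s ∈ A) {v : L} (hv : v ∈ V' c A) :
    c.x1 s * v * (c.x1 s)⁻¹ ∈ V' c A := by
  have := V'_conj1 hA (neg_mem hs) hv
  rwa [c.x1_neg, inv_inv] at this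

variable (c)

/-- elements of `U` with short coordinates in `A` -/
def VA {A : AddSubgroup E} (hA : GoodA σ A) : Subgroup L where
  carrier := {g | ∃ s ∈ A, ∃ v ∈ V' c A, g = c.x1 s * v}
  mul_mem' := by
    rintro _ _ ⟨s, hs, v, hv, rfl⟩ ⟨s', hs', v', hv', rfl⟩
    refine ⟨s + s', add_mem hs hs', (c.x1 s')⁻¹ * v * c.x1 s' * v', mul_mem (V'_conj1 hA hs' hv) hv', ?_⟩
    rw [c.x1_add]
    group
  one_mem' := ⟨0, zero_mem _, 1, one_mem _, by rw [c.x1_zero, one_mul]⟩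
  inv_mem' := by
    rintro _ ⟨s, hs, v, hv, rfl⟩
    refine ⟨-s, neg_mem hs, c.x1 s * v⁻¹ * (c.x1 s)⁻¹, V'_conj1' hA hs (inv_mem hv), ?_⟩
    rw [c.x1_neg]
    group

variable {c}

section

variable {A : AddSubgroup E} {hA : GoodA σ A}

theorem VA_le : VA c hA ≤ Sg c.X Pos := by
  rintro _ ⟨s, hs, v, hv, rfl⟩
  exact mul_mem (c.sg (by decide) (c.mem1 s)) (c.Q4_le_Pos (V'_le_Q4 c A hv))

theorem V'_le_VA : V' c A ≤ VA c hA := fun v hv => ⟨0, zero_mem _, v, hv, by rw [c.x1_zero, one_mul]⟩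

theorem x1_VA {s : E} (hs : s ∈ A) : c.x1 s ∈ VA c hA := ⟨s, hs, 1, one_mem _, by rw [mul_one]⟩
theorem x2_VA {t : E} (ht : σ t = t) : c.x2 t ∈ VA c hA := V'_le_VA ⟨_, _, _, _, c.nf2 ht, zero_mem _, zero_mem _⟩
theorem x3_VA {s : E} (hs : s ∈ A) : c.x3 s ∈ VA c hA := V'_le_VA ⟨_, _, _, _, c.nf3 s, hs, zero_mem _⟩
theorem x4_VA {t : E} (ht : σ t = t) : c.x4 t ∈ VA c hA := V'_le_VA ⟨_, _, _, _, c.nf4 ht, zero_mem _, zero_mem _⟩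
theorem x5_VA {s : E} (hs : s ∈ A) : c.x5 s ∈ VA c hA := V'_le_VA ⟨_, _, _, _, c.nf5 s, zero_mem _, hs⟩
theorem x6_VA {t : E} (ht : σ t = t) : c.x6 t ∈ VA c hA := V'_le_VA ⟨_, _, _, _, c.nf6 ht, zero_mem _, zero_mem _⟩

theorem n1_V' {v : L} (hv : v ∈ V' c A) : c.n1 * v * c.n1⁻¹ ∈ V' c A := by
  obtain ⟨b2, b3, b5, b6, h, h3, h5⟩ := hv
  exact ⟨_, _, _, _, n1_NF h, neg_mem h5, h3⟩

theorem n6_x3 (b : E) : c.n6 * c.x3 b * c.n6⁻¹ = c.x3 b := by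
  have := H148.Hex.pa_comm3 c (wm 1 one_ne_zero) (c.mem3 b)
  rw [show c.n6 = c.pa (wm 1 one_ne_zero) from rfl, this]
  group

/-- `u = x1 * x2 * x3 * x4 * x5 * x6` -/
theorem exists_six {u : L} (hu : u ∈ VA c hA) : ∃ a1 ∈ A, ∃ a2, σ a2 = a2 ∧ ∃ a3 ∈ A, ∃ a4, σ a4 = a4 ∧ ∃ a5 ∈ A,
    ∃ a6, σ a6 = a6 ∧ u = c.x1 a1 * c.x2 a2 * c.x3 a3 * c.x4 a4 * c.x5 a5 * c.x6 a6 := by
  obtain ⟨s, hs, v, ⟨b2, b3, b5, b6, ⟨f2, f6, b4, f4, rfl⟩, h3, h5⟩, rfl⟩ := hu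
  exact ⟨s, hs, b2, f2, b3, h3, b4, f4, b5, h5, b6, f6, by group⟩

theorem six_VA {a1 a2 a3 a4 a5 a6 : E} (h1 : a1 ∈ A) (h2 : σ a2 = a2) (h3 : a3 ∈ A) (h4 : σ a4 = a4) (h5 : a5 ∈ A)
    (h6 : σ a6 = a6) : c.x1 a1 * c.x2 a2 * c.x3 a3 * c.x4 a4 * c.x5 a5 * c.x6 a6 ∈ VA c hA :=
  mul_mem (mul_mem (mul_mem (mul_mem (mul_mem (x1_VA h1) (x2_VA h2)) (x3_VA h3)) (x4_VA h4)) (x5_VA h5)) (x6_VA h6)

/-- `u = u' x6`, `n6` normalises -/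
theorem split6 {u : L} (hu : u ∈ VA c hA) : ∃ v t, σ t = t ∧ c.n6 * v * c.n6⁻¹ ∈ VA c hA ∧ u = v * c.x6 t := by
  obtain ⟨a1, h1, a2, h2, a3, h3, a4, h4, a5, h5, a6, h6, rfl⟩ := exists_six hu
  refine ⟨c.x1 a1 * c.x2 a2 * c.x3 a3 * c.x4 a4 * c.x5 a5, a6, h6, ?_, rfl⟩
  have e : c.n6 * (c.x1 a1 * c.x2 a2 * c.x3 a3 * c.x4 a4 * c.x5 a5) * c.n6⁻¹ =
      c.x5 a1 * c.x4 (-a2) * c.x3 a3 * c.x2 a4 * c.x1 (-a5) := by
    rw [conj5, n6_x1 (c := c) a1, H148.Hex.n6_x2 c h2, n6_x3 (c := c) a3, H148.Hex.n6_x4 c h4, n6_x5 (c := c) a5]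
  rw [e]
  exact mul_mem (mul_mem (mul_mem (mul_mem (x5_VA h1) (x4_VA (neg_fix h2))) (x3_VA h3)) (x2_VA h4)) (x1_VA (neg_mem h5))

theorem split1 {u : L} (hu : u ∈ VA c hA) : ∃ v s, s ∈ A ∧ c.n1 * v * c.n1⁻¹ ∈ VA c hA ∧ u = v * c.x1 s := by
  obtain ⟨s, hs, v, hv, rfl⟩ := hu
  exact ⟨c.x1 s * v * (c.x1 s)⁻¹, s, hs, V'_le_VA (n1_V' (V'_conj1' hA hs hv)), by group⟩

/-! ### Points -/

variable (c) in
/-- the long root groups `u (X k) u⁻¹`, `u ∈ VA A` -/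
def SV (hA : GoodA σ A) : Set (Subgroup L) := {B | ∃ u ∈ VA c hA, ∃ k ∈ Ev, B = cj u (c.X k)}

theorem X_SV {k : ZMod (2 * 6)} (hk : k ∈ Ev) : c.X k ∈ SV c hA := ⟨1, one_mem _, k, hk, (cj_one _).symm⟩

theorem VA_SV {v : L} (hv : v ∈ VA c hA) {B : Subgroup L} (hB : B ∈ SV c hA) : cj v B ∈ SV c hA := by
  obtain ⟨u, hu, k, hk, rfl⟩ := hB
  exact ⟨v * u, mul_mem hv hu, k, hk, (cj_mul _ _ _).symm⟩

theorem T_VA {g : L} {c1 c6 : E} (h : c.Act g c1 c6) (hc : ∀ a ∈ A, c1 * a ∈ A ∧ shp σ c1 * a ∈ A) {v : L}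
    (hv : v ∈ VA c hA) : g * v * g⁻¹ ∈ VA c hA := by
  obtain ⟨a1, h1, a2, h2, a3, h3, a4, h4, a5, h5, a6, h6, rfl⟩ := exists_six hv
  have e : g * (c.x1 a1 * c.x2 a2 * c.x3 a3 * c.x4 a4 * c.x5 a5 * c.x6 a6) * g⁻¹ =
      c.x1 (c1 * a1) * c.x2 (c6 * nrm σ c1 * a2) * c.x3 (c6 * shp σ c1 * a3) * c.x4 (c6 ^ 2 * nrm σ c1 * a4) *
        c.x5 (c6 * c1 * a5) * c.x6 (c6 * a6) := by
    rw [← h.a1, ← h.a2 a2 h2, ← h.a3, ← h.a4 a4 h4, ← h.a5, ← h.a6 a6 h6]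
    group
  rw [e]
  refine six_VA (hc _ h1).1 (mul_fix (mul_fix h.fix (c.nf _)) h2) ?_ (mul_fix h.fix4 h4) ?_ (mul_fix h.fix h6)
  · rw [mul_assoc]
    exact hA.smul _ h.fix _ (hc _ h3).2
  · rw [mul_assoc]
    exact hA.smul _ h.fix _ (hc _ h5).1

theorem T_SV {g : L} {c1 c6 : E} (h : c.Act g c1 c6) (hc : ∀ a ∈ A, c1 * a ∈ A ∧ shp σ c1 * a ∈ A)
    {B : Subgroup L} (hB : B ∈ SV c hA) : cj g B ∈ SV c hA := by
  obtain ⟨u, hu, k, hk, rfl⟩ := hB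
  refine ⟨g * u * g⁻¹, T_VA h hc hu, k, hk, ?_⟩
  have e : cj (g * u) (c.X k) = cj (g * u * g⁻¹ * g) (c.X k) := by
    congr 1
    group
  rw [← cj_mul, e, cj_mul, cj_act c h]

theorem ev8 : ∀ k ∈ Ev, 8 - k ∈ Ev ∧ 6 - k ∈ Ev := by decide +kernel

theorem idx_n1 : ∀ k ∈ Ev, ((1 : ZMod (2 * 6)) - k + 3).val ≤ 6 ∨ ((7 : ZMod (2 * 6)) - k + 3).val ≤ 6 := by
  decide +kernel

theorem idx_n6 : ∀ k ∈ Ev, ((6 : ZMod (2 * 6)) - k + 3).val ≤ 6 ∨ ((0 : ZMod (2 * 6)) - k + 3).val ≤ 6 := by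
  decide +kernel

theorem n1_SV {B : Subgroup L} (hB : B ∈ SV c hA) : cj c.n1 B ∈ SV c hA := by
  obtain ⟨u, hu, k, hk, rfl⟩ := hB
  obtain ⟨v, s, hs, hv, rfl⟩ := split1 hu
  have e : cj c.n1 (cj (v * c.x1 s) (c.X k)) = cj (c.n1 * v * c.n1⁻¹) (cj (c.n1 * c.x1 s) (c.X k)) := by
    rw [← cj_mul, ← cj_mul]
    congr 1
    group
  rw [e]
  refine VA_SV hv ?_
  have h8 : cj c.n1 (c.X k) ∈ SV c hA := by
    rw [cj_of_maps c c.maps_n1]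
    exact X_SV (ev8 k hk).1
  by_cases h0 : s = 0
  · rw [h0, c.x1_zero, mul_one]
    exact h8
  rcases idx_n1 k hk with h | h
  · rw [cj_mul, show cj (c.x1 s) (c.X k) = c.X k from nz_of_comm c hk h (c.mem1 s)]
    exact h8
  · rw [n1_x1_mul c h0, cj_mul, cj_mul,
      show cj (c.pb (lo s⁻¹)) (c.X k) = c.X k from nz_of_comm c hk h ((c.pb_lo _).2 ⟨_, rfl⟩),
      cj_act c (c.act_b _ _)]
    exact VA_SV (x1_VA (neg_mem (hA.inv s hs))) (X_SV hk)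

theorem n6_SV {B : Subgroup L} (hB : B ∈ SV c hA) : cj c.n6 B ∈ SV c hA := by
  obtain ⟨u, hu, k, hk, rfl⟩ := hB
  obtain ⟨v, s, hs, hv, rfl⟩ := split6 hu
  have e : cj c.n6 (cj (v * c.x6 s) (c.X k)) = cj (c.n6 * v * c.n6⁻¹) (cj (c.n6 * c.x6 s) (c.X k)) := by
    rw [← cj_mul, ← cj_mul]
    congr 1
    group
  rw [e]
  refine VA_SV hv ?_
  have h8 : cj c.n6 (c.X k) ∈ SV c hA := by
    rw [cj_of_maps c c.maps_n6]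
    exact X_SV (ev8 k hk).2
  by_cases h0 : s = 0
  · rw [h0, c.x6_zero, mul_one]
    exact h8
  rcases idx_n6 k hk with h | h
  · rw [cj_mul, show cj (c.x6 s) (c.X k) = c.X k from nz_of_comm c hk h (c.mem6 hs)]
    exact h8
  · have h0' : (⟨s, hs⟩ : ↥(fx σ)) ≠ 0 := fun h => h0 (congrArg Subtype.val h)
    have := n6_x6_mul c h0'
    change c.n6 * c.x6 s = _ at this
    rw [this, cj_mul, cj_mul,
      show cj (c.pa (lo (⟨s, hs⟩ : ↥(fx σ))⁻¹)) (c.X k) = c.X k from nz_of_comm c hk h ((c.pa_lo _).2 ⟨_, rfl⟩),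
      cj_act c (c.act_a _ _)]
    exact VA_SV (x6_VA (-(⟨s, hs⟩ : ↥(fx σ))⁻¹).2) (X_SV hk)

end

end Cfsg.Agent.H812.D4
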